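import Cfsg.Agent.Lib.RuAut.Out.Cert

/-! Inverse words, substitution and generation by the images of the three standard elements. -/

set_option autoImplicit false
set_option maxRecDepth 100000

namespace CfsgLib.RuAut.Outer

open Cfsg Cfsg.Spor CfsgLib.CosetEnum CfsgLib.RuAut

/-- Inverse of a letter. -/
def invL (x : ℕ) : ℕ := bif Nat.blt x 3 then x + 3 else x - 3

/-- Inverse of a word. -/
noncomputable def invW (w : List ℕ) : List ℕ := (w.map invL).reverse

theorem gen_invL {x : ℕ} (hx : x < 6) : gen (invL x) = (gen x)⁻¹ := by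
  interval_cases x <;> rfl

theorem ev_invW : ∀ w : List ℕ, (∀ x ∈ w, x < 6) → ev (invW w) = (ev w)⁻¹
  | [], _ => by simp [invW, ev_nil]
  | x :: w, h => by
    rw [ev_cons, mul_inv_rev, ← ev_invW w (fun y hy => h y (by simp [hy])), ← gen_invL (h x (by simp))]
    simp [invW, ev]

/-- Six words from three. -/
noncomputable def six (a b c : List ℕ) : List (List ℕ) := [a, b, c, invW a, invW b, invW c]

/-- Substitute words for letters. -/
noncomputable def flat (L : List (List ℕ)) (w : List ℕ) : List ℕ := (w.map fun a => L.getD a []).flatten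

theorem ev_flat (L : List (List ℕ)) : ∀ w : List ℕ, ev (flat L w) = (w.map fun a => ev (L.getD a [])).prod
  | [] => by simp [flat, ev_nil]
  | a :: w => by
    rw [show flat L (a :: w) = L.getD a [] ++ flat L w from rfl, ev_append, ev_flat L w, List.map_cons, List.prod_cons]

theorem hom_flat {M : Type*} [Monoid M] (f : Cfsg.Spor.Ru →* M) (L : List (List ℕ)) (w : List ℕ) :
    f (ev (flat L w)) = (w.map fun a => f (ev (L.getD a []))).prod := by
  rw [ev_flat, map_list_prod, List.map_map]
  rfl

theorem coverGrp_sup : coverGrp ⊔ Subgroup.center fourRu = ⊤ := by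
  have h1 : coverGrp ≤ coverGrp ⊔ Subgroup.center fourRu := le_sup_left
  have h2 := Subgroup.index_dvd_of_le h1
  rw [coverGrp_index.1] at h2
  rcases (Nat.dvd_prime Nat.prime_two).1 h2 with h | h
  · exact Subgroup.index_eq_one.1 h
  · exfalso
    apply eI_not_mem
    have e : coverGrp = coverGrp ⊔ Subgroup.center fourRu :=
      Subgroup.eq_of_le_of_card_ge h1 (by
        have c1 := Subgroup.card_mul_index coverGrp
        have c2 := Subgroup.card_mul_index (coverGrp ⊔ Subgroup.center fourRu)
        rw [coverGrp_index.1] at c1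
        rw [h] at c2
        omega)
    rw [e]
    exact Subgroup.mem_sup_right (by rw [center_eq]; exact Subgroup.mem_zpowers _)

theorem gen_closure : Subgroup.closure ({gen 0, gen 1, gen 2} : Set Cfsg.Spor.Ru) = ⊤ := by
  have h := congrArg (Subgroup.map (QuotientGroup.mk' (Subgroup.center fourRu))) coverGrp_sup
  rw [Subgroup.map_sup, Subgroup.map_top_of_surjective _ (QuotientGroup.mk'_surjective _),
    QuotientGroup.map_mk'_self, sup_bot_eq] at h
  rw [← h, coverGrp, MonoidHom.map_closure]
  congr 1
  simp [Set.image_insert_eq, gen]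

end CfsgLib.RuAut.Outer
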