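import Cfsg.Agent.Lib.RuAut.Out.Orth

/-! Words in the Rudvalis group and certificates for intertwining elements. -/

set_option autoImplicit false
set_option maxRecDepth 100000

namespace CfsgLib.RuAut.Outer

open Cfsg Cfsg.Spor CfsgLib.CosetEnum CfsgLib.RuAut

attribute [local irreducible] Tr.get

/-- The generators. -/
noncomputable def gen : ℕ → Cfsg.Spor.Ru
  | 0 => QuotientGroup.mk eW
  | 1 => QuotientGroup.mk eT
  | 2 => QuotientGroup.mk eT2
  | 3 => QuotientGroup.mk eW⁻¹
  | 4 => QuotientGroup.mk eT⁻¹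
  | 5 => QuotientGroup.mk eT2⁻¹
  | _ => 1

/-- Value of a word. -/
noncomputable def ev (w : List ℕ) : Cfsg.Spor.Ru := (w.map gen).prod

theorem ev_nil : ev [] = 1 := rfl

theorem ev_cons (x : ℕ) (w : List ℕ) : ev (x :: w) = gen x * ev w := by simp [ev]

theorem ev_append (u w : List ℕ) : ev (u ++ w) = ev u * ev w := by simp [ev, List.map_append, List.prod_append]

theorem ev_replicate (w : List ℕ) : ∀ n : ℕ, ev (List.replicate n w).flatten = ev w ^ n
  | 0 => by rw [List.replicate_zero, List.flatten_nil, ev_nil, pow_zero]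
  | n + 1 => by rw [List.replicate_succ, List.flatten_cons, ev_append, ev_replicate w n, pow_succ']

/-- A line moved by one letter. -/
noncomputable def actL (x l : ℕ) : ℕ :=
  strict (repTab.get 20 l) fun r => strict (act coverTab x r) fun y => lineTab.get 20 y

/-- A line moved by a word. -/
noncomputable def scanW : List ℕ → ℕ → ℕ :=
  fun w => List.rec (motive := fun _ => ℕ → ℕ) (fun l => l) (fun x _ ih l => strict (ih l) fun y => actL x y) w

theorem scanW_cons (x : ℕ) (w : List ℕ) (l : ℕ) : scanW (x :: w) l = actL x (scanW w l) := by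
  show strict (scanW w l) (fun y => actL x y) = _
  rw [strict_eq]

/-- Letters of a word are generators. -/
noncomputable def wordB (w : List ℕ) : Bool := w.all fun x => Nat.blt x 6

theorem wordB_spec {w : List ℕ} (h : wordB w = true) : ∀ x ∈ w, x < 6 := fun x hx => by
  have := List.all_eq_true.1 h x hx
  rwa [Nat.blt_eq] at this

theorem πR_gen {x : ℕ} (hx : x < 6) (l : Fin 4060) :
    ((πR (gen x) l : Fin 4060) : ℕ) = actL x (l : ℕ) := by
  obtain ⟨i1, i2, i3⟩ := acts_inv_all
  have key : ∀ (f : fourRu) (T : Tr), Acts f T → act coverTab x (repTab.get 20 l) = T.get 20 (repTab.get 20 l) →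
      ((piL f l : Fin 4060) : ℕ) = actL x (l : ℕ) := by
    intro f T hf he
    rw [actL, strict_eq, strict_eq, he, ← val_repOf, ← hf (repOf l), ← val_lineOf, ← piL_lineOf, lineOf_repOf]
  interval_cases x
  · exact key eW permW acts_eW (act_get coverTab (j := 0) (by decide) _)
  · exact key eT permT acts_eT (act_get coverTab (j := 1) (by decide) _)
  · exact key eT2 permT2 acts_eT2 (act_get coverTab (j := 2) (by decide) _)
  · exact key eW⁻¹ permWinv i1 (act_get coverTab (j := 3) (by decide) _)
  · exact key eT⁻¹ permTinv i2 (act_get coverTab (j := 4) (by decide) _)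
  · exact key eT2⁻¹ permT2inv i3 (act_get coverTab (j := 5) (by decide) _)

theorem ev_apply : ∀ (w : List ℕ), (∀ x ∈ w, x < 6) → ∀ l : Fin 4060,
    ((πR (ev w) l : Fin 4060) : ℕ) = scanW w l
  | [], _, l => by rw [ev_nil, map_one]; rfl
  | x :: w, h, l => by
    rw [ev_cons, map_mul, Equiv.Perm.mul_apply, scanW_cons, πR_gen (h x (by simp)),
      ev_apply w (fun y hy => h y (by simp [hy])) l]

/-- Two words have equal values. -/
noncomputable def eqW (u w : List ℕ) : Bool :=
  wordB u && wordB w && baseL.all fun k => Nat.beq (scanW u k) (scanW w k)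

theorem eqW_spec {u w : List ℕ} (h : eqW u w = true) : ev u = ev w := by
  simp only [eqW, Bool.and_eq_true, List.all_eq_true, Nat.beq_eq] at h
  refine eq_of_base _ _ fun k hk hk' => Fin.ext ?_
  rw [ev_apply _ (wordB_spec h.1.1), ev_apply _ (wordB_spec h.1.2)]
  exact h.2 k hk

/-- Two words have different values. -/
noncomputable def neW (u w : List ℕ) : Bool :=
  wordB u && wordB w && baseL.any fun k => Nat.blt k 4060 && !Nat.beq (scanW u k) (scanW w k)

theorem neW_spec {u w : List ℕ} (h : neW u w = true) : ev u ≠ ev w := by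
  simp only [neW, Bool.and_eq_true, List.any_eq_true, Bool.not_eq_true', Nat.blt_eq] at h
  obtain ⟨⟨hu, hw⟩, k, -, hk', hne⟩ := h
  intro e
  have := ev_apply u (wordB_spec hu) ⟨k, hk'⟩
  rw [e, ev_apply w (wordB_spec hw) ⟨k, hk'⟩] at this
  simp [this] at hne

/-- Equality of labels. -/
def eqB (a b : Bool) : Bool := bif a then b else !b

theorem eqB_iff {a b : Bool} : eqB a b = true ↔ a = b := by cases a <;> cases b <;> decide

/-- The successive images of a line. -/
noncomputable def cyc (w : List ℕ) : ℕ → ℕ → List ℕ :=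
  fun m => Nat.rec (motive := fun _ => ℕ → List ℕ) (fun _ => [])
    (fun _ ih a => a :: strict (scanW w a) fun a' => ih a') m

theorem cyc_zero (w : List ℕ) (a : ℕ) : cyc w 0 a = [] := rfl

theorem cyc_succ (w : List ℕ) (m a : ℕ) : cyc w (m + 1) a = a :: cyc w m (scanW w a) := by
  show a :: strict (scanW w a) (fun a' => cyc w m a') = _
  rw [strict_eq]

theorem cyc_length (w : List ℕ) : ∀ m a : ℕ, (cyc w m a).length = m
  | 0, a => by rw [cyc_zero]; rfl
  | m + 1, a => by rw [cyc_succ, List.length_cons, cyc_length w m]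

/-- All labels from the listed lines match. -/
noncomputable def matchB : List ℕ → List Bool → ℕ → Bool
  | c :: cs, l :: ls, b => eqB (lbl c b) l && matchB cs ls b
  | _, _, _ => true

/-- The labels of a line from the listed lines. -/
noncomputable def vecL (cs : List ℕ) (b : ℕ) : List Bool := cs.map fun c => lbl c b

/-- The labels of listed lines from a line. -/
noncomputable def vecR (a : ℕ) (cs : List ℕ) : List Bool := cs.map fun c => lbl a c

/-- All labels seen from a line match. -/
noncomputable def selfB (a : ℕ) : List ℕ → List Bool → Bool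
  | c :: cs, l :: ls => eqB (lbl a c) l && selfB a cs ls
  | _, _ => true

theorem matchB_vecL : ∀ (cs : List ℕ) (b : ℕ), matchB cs (vecL cs b) b = true
  | [], _ => rfl
  | c :: cs, b => by
    rw [vecL, List.map_cons, matchB, Bool.and_eq_true, eqB_iff]
    exact ⟨rfl, matchB_vecL cs b⟩

theorem selfB_vecR (a : ℕ) : ∀ cs : List ℕ, selfB a cs (vecR a cs) = true
  | [] => rfl
  | c :: cs => by
    rw [vecR, List.map_cons, selfB, Bool.and_eq_true, eqB_iff]
    exact ⟨rfl, selfB_vecR a cs⟩

/-- Equality of lists of labels. -/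
noncomputable def eqBs : List Bool → List Bool → Bool
  | [], [] => true
  | a :: as, b :: bs => eqB a b && eqBs as bs
  | _, _ => false

theorem eqBs_eq : ∀ {a b : List Bool}, eqBs a b = true → a = b
  | [], [], _ => rfl
  | [], _ :: _, h => by simp [eqBs] at h
  | _ :: _, [], h => by simp [eqBs] at h
  | a :: as, b :: bs, h => by
    rw [eqBs, Bool.and_eq_true, eqB_iff] at h
    rw [h.1, eqBs_eq h.2]

section Move

variable {u w : List ℕ} {g : Cfsg.Spor.Ru} (hu : ∀ x ∈ u, x < 6) (hw : ∀ x ∈ w, x < 6)
  (hg : g * ev u = ev w * g)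
include hu hw hg

theorem step_eq (c : Fin 4060) : scanW w (πR g c : Fin 4060) = (πR g (πR (ev u) c) : Fin 4060) := by
  rw [← ev_apply w hw, ← Equiv.Perm.mul_apply (πR g), ← Equiv.Perm.mul_apply (πR (ev w)), ← map_mul, ← map_mul, hg]

theorem cyc_move : ∀ (m : ℕ) (a b : Fin 4060),
    vecL (cyc w m (πR g a : Fin 4060)) (πR g b : Fin 4060) = vecL (cyc u m a) b
  | 0, _, _ => by simp only [cyc_zero, vecL, List.map_nil]
  | m + 1, a, b => by
    rw [cyc_succ, cyc_succ, vecL, vecL, List.map_cons, List.map_cons, πR_lbl, step_eq hu hw hg a,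
      ← ev_apply u hu a]
    exact congrArg (List.cons _) (cyc_move m (πR (ev u) a) b)

theorem cyc_moveR : ∀ (m : ℕ) (a c : Fin 4060),
    vecR (πR g a : Fin 4060) (cyc w m (πR g c : Fin 4060)) = vecR a (cyc u m c)
  | 0, _, _ => by simp only [cyc_zero, vecR, List.map_nil]
  | m + 1, a, c => by
    rw [cyc_succ, cyc_succ, vecR, vecR, List.map_cons, List.map_cons, πR_lbl, step_eq hu hw hg c,
      ← ev_apply u hu c]
    exact congrArg (List.cons _) (cyc_moveR m a (πR (ev u) c))

end Move

/-- A certificate for the elements intertwining two words. -/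
structure Inter where
  /-- the first word -/
  vW : List ℕ
  /-- the second word -/
  wW : List ℕ
  /-- the length of the cycle of the first line -/
  m : ℕ
  /-- the cycle of the first line -/
  cv : List ℕ
  /-- its labels from the first line -/
  lv : List Bool
  /-- base lines with their labels from the cycle -/
  lb : List (ℕ × List Bool)
  /-- the intertwining elements with their images of the first line -/
  els : List (ℕ × List ℕ)
  /-- excluded images: image, base line, cycle -/
  reps : List (ℕ × ℕ × List ℕ)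
  /-- further excluded images: image, word commuting with the second word, index of the excluded image -/
  syms : List (ℕ × List ℕ × ℕ)

variable (C : Inter)

/-- Validity of the header. -/
noncomputable def Inter.headB : Bool :=
  wordB C.vW && wordB C.wW && listEq (cyc C.vW C.m 0) C.cv && eqBs (vecR 0 C.cv) C.lv &&
    [28, 32, 3141, 1, 37].all (fun b => C.lb.any fun p => Nat.beq p.1 b) &&
    C.lb.all (fun p => Nat.blt p.1 4060 && eqBs (vecL C.cv p.1) p.2)

/-- The base lines are determined by their labels. -/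
noncomputable def Inter.uniqB (k : ℕ) : Bool :=
  C.lb.all fun p => Nat.beq k p.1 || !matchB C.cv p.2 k

/-- Every possible image of the first line is listed. -/
noncomputable def Inter.screenB (k : ℕ) : Bool :=
  !selfB k (cyc C.wW C.m k) C.lv || C.els.any (fun e => Nat.beq e.1 k) ||
    C.reps.any (fun e => Nat.beq e.1 k) || C.syms.any fun e => Nat.beq e.1 k

/-- The listed elements intertwine. -/
noncomputable def Inter.elsB : Bool :=
  C.els.all fun e => wordB e.2 && Nat.beq (scanW e.2 0) e.1 && eqW (e.2 ++ C.vW) (C.wW ++ e.2)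

/-- An excluded image has a base line without image. -/
noncomputable def Inter.repB (e : ℕ × ℕ × List ℕ) : Bool :=
  Nat.blt e.1 4060 && listEq (cyc C.wW C.m e.1) e.2.2 &&
    C.lb.any fun p => Nat.beq p.1 e.2.1 && allFrom (fun q => !matchB e.2.2 p.2 q) 4060 0

/-- Symmetric excluded images. -/
noncomputable def Inter.symB (e : ℕ × List ℕ × ℕ) : Bool :=
  Nat.blt e.2.2 C.reps.length && wordB e.2.1 &&
    Nat.beq (scanW e.2.1 (C.reps.getD e.2.2 (0, 0, [])).1) e.1 && eqW (e.2.1 ++ C.wW) (C.wW ++ e.2.1)

/-- The whole certificate. -/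
structure Inter.Valid : Prop where
  head : C.headB = true
  uniq : ∀ k < 4060, C.uniqB k = true
  screen : ∀ k < 4060, C.screenB k = true
  els : C.elsB = true
  reps : C.reps.all C.repB = true
  syms : C.syms.all C.symB = true

theorem Inter.complete (hC : C.Valid) {g : Cfsg.Spor.Ru} (hg : g * ev C.vW = ev C.wW * g) :
    ∃ e ∈ C.els, g = ev e.2 := by
  have hh := hC.head
  simp only [Inter.headB, Bool.and_eq_true, List.all_eq_true, List.any_eq_true, Nat.beq_eq, Nat.blt_eq] at hh
  obtain ⟨⟨⟨⟨⟨hvW, hwW⟩, hcv⟩, hlv⟩, hbase⟩, hlb⟩ := hh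
  have hcv := listEq_eq _ _ hcv
  have hlv := eqBs_eq hlv
  have hv := wordB_spec hvW
  have hw := wordB_spec hwW
  let z : Fin 4060 := ⟨0, by omega⟩
  have norep : ∀ g' : Cfsg.Spor.Ru, g' * ev C.vW = ev C.wW * g' →
      ∀ e ∈ C.reps, e.1 ≠ ((πR g' z : Fin 4060) : ℕ) := by
    intro g' hg' e he hea
    have hb := List.all_eq_true.1 hC.reps e he
    simp only [Inter.repB, Bool.and_eq_true, List.any_eq_true, Nat.beq_eq] at hb
    obtain ⟨⟨-, hcs⟩, p, hp, hpe, hall⟩ := hb
    have hcs := listEq_eq _ _ hcs
    rw [hea] at hcs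
    let b : Fin 4060 := ⟨p.1, (hlb p hp).1⟩
    have hmove := cyc_move hv hw hg' C.m z b
    rw [hcs, show cyc C.vW C.m (z : ℕ) = C.cv from hcv,
      show vecL C.cv (b : ℕ) = p.2 from eqBs_eq (hlb p hp).2] at hmove
    have h := allFrom_spec _ _ _ hall (πR g' b : Fin 4060) (Nat.zero_le _) (by have := (πR g' b).2; omega)
    rw [← hmove, matchB_vecL] at h
    exact Bool.noConfusion h
  let a := πR g z
  have hself : vecR (a : ℕ) (cyc C.wW C.m a) = C.lv := by
    rw [cyc_moveR hv hw hg C.m z z, ← hlv, ← hcv]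
  have hs := hC.screen a a.2
  simp only [Inter.screenB, Bool.or_eq_true, Bool.not_eq_true', List.any_eq_true, Nat.beq_eq] at hs
  rcases hs with ((hs | ⟨e, he, hea⟩) | ⟨e, he, hea⟩) | ⟨e, he, hea⟩
  · rw [← hself, selfB_vecR] at hs
    exact absurd hs (by simp)
  · refine ⟨e, he, ?_⟩
    have hel := hC.els
    simp only [Inter.elsB, Bool.and_eq_true, List.all_eq_true, Nat.beq_eq] at hel
    obtain ⟨⟨hew, he0⟩, hcomm⟩ := hel e he
    have hc := eqW_spec hcomm
    rw [ev_append, ev_append] at hc
    set k := ev e.2 with hk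
    have hkz : πR k z = a := Fin.ext (by rw [hk, ev_apply _ (wordB_spec hew)]; exact he0.trans hea)
    have hh' : k⁻¹ * g * ev C.vW = ev C.vW * (k⁻¹ * g) := by
      have hc' : k⁻¹ * ev C.wW = ev C.vW * k⁻¹ := by
        rw [eq_mul_inv_iff_mul_eq, mul_assoc, ← hc, ← mul_assoc, inv_mul_cancel, one_mul]
      rw [mul_assoc, hg, ← mul_assoc, hc', mul_assoc]
    have hfix : πR (k⁻¹ * g) z = z := by
      rw [map_mul, Equiv.Perm.mul_apply, map_inv, Equiv.Perm.inv_def, Equiv.symm_apply_eq, hkz]
    have hone : k⁻¹ * g = 1 := eq_of_base _ _ fun b hb hb' => by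
      rw [map_one, Equiv.Perm.one_apply]
      rcases List.mem_cons.1 hb with rfl | hb
      · exact hfix
      · obtain ⟨p, hp, hpb⟩ := hbase b hb
        have hvec := cyc_move hv hv hh' C.m z ⟨b, hb'⟩
        rw [hfix, show cyc C.vW C.m (z : ℕ) = C.cv from hcv] at hvec
        have hlp := eqBs_eq (hlb p hp).2
        rw [hpb] at hlp
        rw [show vecL C.cv ((⟨b, hb'⟩ : Fin 4060) : ℕ) = p.2 from hlp] at hvec
        have hu := List.all_eq_true.1 (hC.uniq _ (πR (k⁻¹ * g) ⟨b, hb'⟩).2) p hp
        rw [Bool.or_eq_true, Nat.beq_eq, hpb, Bool.not_eq_true'] at hu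
        rcases hu with hu | hu
        · exact Fin.ext hu
        · rw [← hvec, matchB_vecL] at hu
          exact absurd hu (by simp)
    exact (inv_mul_eq_one.1 hone).symm
  · exact absurd hea (norep g hg e he)
  · exfalso
    have hb := List.all_eq_true.1 hC.syms e he
    simp only [Inter.symB, Bool.and_eq_true, Nat.beq_eq, Nat.blt_eq] at hb
    obtain ⟨⟨⟨hi, hcw⟩, hsc⟩, hcomm⟩ := hb
    have hc := eqW_spec hcomm
    rw [ev_append, ev_append] at hc
    rw [List.getD_eq_getElem (hn := hi)] at hsc
    have hg' : (ev e.2.1)⁻¹ * g * ev C.vW = ev C.wW * ((ev e.2.1)⁻¹ * g) := by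
      have hc' : (ev e.2.1)⁻¹ * ev C.wW = ev C.wW * (ev e.2.1)⁻¹ := by
        rw [eq_mul_inv_iff_mul_eq, mul_assoc, ← hc, ← mul_assoc, inv_mul_cancel, one_mul]
      rw [mul_assoc, hg, ← mul_assoc, hc', mul_assoc]
    have hlt : (C.reps[e.2.2]).1 < 4060 := by
      have hr := List.all_eq_true.1 hC.reps _ (List.getElem_mem hi)
      simp only [Inter.repB, Bool.and_eq_true, Nat.blt_eq] at hr
      exact hr.1.1
    refine norep _ hg' _ (List.getElem_mem hi) ?_
    have e1 : πR (ev e.2.1) ⟨_, hlt⟩ = a := Fin.ext (by rw [ev_apply _ (wordB_spec hcw)]; exact hsc.trans hea)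
    rw [map_mul, Equiv.Perm.mul_apply, map_inv, show πR g z = a from rfl, ← e1, Equiv.Perm.inv_def,
      Equiv.symm_apply_apply]

end CfsgLib.RuAut.Outer
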