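import Cfsg.Agent.Lib.RuAut.Out.Data

/-! The certificate for inverting elements. -/

set_option autoImplicit false
set_option maxRecDepth 100000

namespace CfsgLib.RuAut.Outer

open CfsgLib.CosetEnum

theorem s_head : interZ.headB = true := by decide +kernel

theorem s_els : interZ.elsB = true := by decide +kernel

theorem s_reps : interZ.reps.all interZ.repB = true := by decide +kernel

theorem s_syms : interZ.syms.all interZ.symB = true := by decide +kernel

theorem s_uniq : allFrom interZ.uniqB 4060 0 = true := by decide +kernel

theorem s_screen : allFrom interZ.screenB 4060 0 = true := by decide +kernel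

theorem interZ_valid : interZ.Valid :=
  ⟨s_head, fun k hk => allFrom_spec _ _ _ s_uniq k (Nat.zero_le _) (by omega),
    fun k hk => allFrom_spec _ _ _ s_screen k (Nat.zero_le _) (by omega), s_els, s_reps, s_syms⟩

end CfsgLib.RuAut.Outer
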