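import Cfsg.Agent.Lib.RuAut.Out.Data

/-! The centraliser certificate. -/

set_option autoImplicit false
set_option maxRecDepth 100000

namespace CfsgLib.RuAut.Outer

open CfsgLib.CosetEnum

theorem x_head : centX.headB = true := by decide +kernel

theorem x_els : centX.elsB = true := by decide +kernel

theorem x_reps : centX.reps.all centX.repB = true := by decide +kernel

theorem x_syms : centX.syms.all centX.symB = true := by decide +kernel

theorem x_uniq : allFrom centX.uniqB 4060 0 = true := by decide +kernel

theorem x_screen : allFrom centX.screenB 4060 0 = true := by decide +kernel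

theorem centX_valid : centX.Valid :=
  ⟨x_head, fun k hk => allFrom_spec _ _ _ x_uniq k (Nat.zero_le _) (by omega),
    fun k hk => allFrom_spec _ _ _ x_screen k (Nat.zero_le _) (by omega), x_els, x_reps, x_syms⟩

end CfsgLib.RuAut.Outer
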