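import Cfsg.Agent.Lib.RuAut.Out.Cert

/-! Generated certificates for automorphisms of the Rudvalis group. -/

set_option autoImplicit false

namespace CfsgLib.RuAut.Outer

/-- The word of order 29. -/
noncomputable def xW : List ℕ :=
 [0]

/-- The word normalising it. -/
noncomputable def zW : List ℕ :=
 [1, 1, 1, 5, 1, 1, 1, 2, 3, 2, 3, 4, 5, 3, 1]

/-- The inverting word. -/
noncomputable def sW : List ℕ :=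
 [5, 5, 4, 5, 5, 5, 5, 5, 1, 5, 5, 1, 1, 2, 4]

/-- The centraliser of the first word. -/
noncomputable def centX : Inter :=
 { vW := [0],
    wW := [0],
    m := 29,
    cv := [0, 1734, 3928, 1894, 2811, 3951, 408, 704, 3522, 1280, 3324, 1889, 2340, 2674, 3349, 1832, 2709, 3348, 2090, 682, 2379, 1047, 1547, 2564, 2823, 752, 2219, 833, 2243],
    lv := [false, false, false, false, false, false, false, false, true, false, true, true, true, true, true, true, true, true, true, true, false, true, false, false, false, false, false, false, false],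
    lb := [(28, [false, false, true, true, false, false, false, false, false, true, false, true, false, false, false, true, false, true, false, true, true, false, true, false, true, true, false, false, false]),
   (32, [false, false, false, false, false, true, false, true, false, false, false, false, false, false, true, false, true, true, false, true, true, true, false, false, false, false, true, false, false]),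
   (3141, [false, true, false, false, false, false, true, false, false, true, true, false, false, true, false, false, true, false, false, true, false, true, true, true, false, false, false, false, true]),
   (1, [true, false, false, false, false, false, true, false, false, true, false, false, true, false, false, false, true, false, false, true, true, false, false, true, false, true, true, true, false]),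
   (37, [false, false, true, false, true, false, false, true, true, true, true, false, true, true, false, true, false, false, true, true, false, true, false, true, true, false, true, true, true])],
    els := [(0, []),
   (408, [0, 0, 0, 0, 0, 0]),
   (682, [0, 0, 0, 0, 0, 0, 0, 0, 0, 0, 0, 0, 0, 0, 0, 0, 0, 0, 0]),
   (704, [0, 0, 0, 0, 0, 0, 0]),
   (752, [0, 0, 0, 0, 0, 0, 0, 0, 0, 0, 0, 0, 0, 0, 0, 0, 0, 0, 0, 0, 0, 0, 0, 0, 0]),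
   (833, [0, 0, 0, 0, 0, 0, 0, 0, 0, 0, 0, 0, 0, 0, 0, 0, 0, 0, 0, 0, 0, 0, 0, 0, 0, 0, 0]),
   (1047, [0, 0, 0, 0, 0, 0, 0, 0, 0, 0, 0, 0, 0, 0, 0, 0, 0, 0, 0, 0, 0]),
   (1280, [0, 0, 0, 0, 0, 0, 0, 0, 0]),
   (1547, [0, 0, 0, 0, 0, 0, 0, 0, 0, 0, 0, 0, 0, 0, 0, 0, 0, 0, 0, 0, 0, 0]),
   (1734, [0]),
   (1832, [0, 0, 0, 0, 0, 0, 0, 0, 0, 0, 0, 0, 0, 0, 0]),
   (1889, [0, 0, 0, 0, 0, 0, 0, 0, 0, 0, 0]),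
   (1894, [0, 0, 0]),
   (2090, [0, 0, 0, 0, 0, 0, 0, 0, 0, 0, 0, 0, 0, 0, 0, 0, 0, 0]),
   (2219, [0, 0, 0, 0, 0, 0, 0, 0, 0, 0, 0, 0, 0, 0, 0, 0, 0, 0, 0, 0, 0, 0, 0, 0, 0, 0]),
   (2243, [0, 0, 0, 0, 0, 0, 0, 0, 0, 0, 0, 0, 0, 0, 0, 0, 0, 0, 0, 0, 0, 0, 0, 0, 0, 0, 0, 0]),
   (2340, [0, 0, 0, 0, 0, 0, 0, 0, 0, 0, 0, 0]),
   (2379, [0, 0, 0, 0, 0, 0, 0, 0, 0, 0, 0, 0, 0, 0, 0, 0, 0, 0, 0, 0]),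
   (2564, [0, 0, 0, 0, 0, 0, 0, 0, 0, 0, 0, 0, 0, 0, 0, 0, 0, 0, 0, 0, 0, 0, 0]),
   (2674, [0, 0, 0, 0, 0, 0, 0, 0, 0, 0, 0, 0, 0]),
   (2709, [0, 0, 0, 0, 0, 0, 0, 0, 0, 0, 0, 0, 0, 0, 0, 0]),
   (2811, [0, 0, 0, 0]),
   (2823, [0, 0, 0, 0, 0, 0, 0, 0, 0, 0, 0, 0, 0, 0, 0, 0, 0, 0, 0, 0, 0, 0, 0, 0]),
   (3324, [0, 0, 0, 0, 0, 0, 0, 0, 0, 0]),
   (3348, [0, 0, 0, 0, 0, 0, 0, 0, 0, 0, 0, 0, 0, 0, 0, 0, 0]),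
   (3349, [0, 0, 0, 0, 0, 0, 0, 0, 0, 0, 0, 0, 0, 0]),
   (3522, [0, 0, 0, 0, 0, 0, 0, 0]),
   (3928, [0, 0]),
   (3951, [0, 0, 0, 0, 0])],
    reps := [(70, 28, [70, 1393, 3743, 3491, 1200, 3924, 226, 2700, 745, 2055, 2268, 3345, 2783, 3200, 3067, 3222, 815, 611, 2276, 1474, 1714, 3527, 369, 2159, 78, 104, 3602, 3422, 3634])],
    syms := [(1393, [0], 0),
   (3743, [0, 0], 0),
   (3491, [0, 0, 0], 0),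
   (1200, [0, 0, 0, 0], 0),
   (3924, [0, 0, 0, 0, 0], 0),
   (226, [0, 0, 0, 0, 0, 0], 0),
   (2700, [0, 0, 0, 0, 0, 0, 0], 0),
   (745, [0, 0, 0, 0, 0, 0, 0, 0], 0),
   (2055, [0, 0, 0, 0, 0, 0, 0, 0, 0], 0),
   (2268, [0, 0, 0, 0, 0, 0, 0, 0, 0, 0], 0),
   (3345, [0, 0, 0, 0, 0, 0, 0, 0, 0, 0, 0], 0),
   (2783, [0, 0, 0, 0, 0, 0, 0, 0, 0, 0, 0, 0], 0),
   (3200, [0, 0, 0, 0, 0, 0, 0, 0, 0, 0, 0, 0, 0], 0),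
   (3067, [0, 0, 0, 0, 0, 0, 0, 0, 0, 0, 0, 0, 0, 0], 0),
   (3222, [0, 0, 0, 0, 0, 0, 0, 0, 0, 0, 0, 0, 0, 0, 0], 0),
   (815, [0, 0, 0, 0, 0, 0, 0, 0, 0, 0, 0, 0, 0, 0, 0, 0], 0),
   (611, [0, 0, 0, 0, 0, 0, 0, 0, 0, 0, 0, 0, 0, 0, 0, 0, 0], 0),
   (2276, [0, 0, 0, 0, 0, 0, 0, 0, 0, 0, 0, 0, 0, 0, 0, 0, 0, 0], 0),
   (1474, [0, 0, 0, 0, 0, 0, 0, 0, 0, 0, 0, 0, 0, 0, 0, 0, 0, 0, 0], 0),
   (1714, [0, 0, 0, 0, 0, 0, 0, 0, 0, 0, 0, 0, 0, 0, 0, 0, 0, 0, 0, 0], 0),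
   (3527, [0, 0, 0, 0, 0, 0, 0, 0, 0, 0, 0, 0, 0, 0, 0, 0, 0, 0, 0, 0, 0], 0),
   (369, [0, 0, 0, 0, 0, 0, 0, 0, 0, 0, 0, 0, 0, 0, 0, 0, 0, 0, 0, 0, 0, 0], 0),
   (2159, [0, 0, 0, 0, 0, 0, 0, 0, 0, 0, 0, 0, 0, 0, 0, 0, 0, 0, 0, 0, 0, 0, 0], 0),
   (78, [0, 0, 0, 0, 0, 0, 0, 0, 0, 0, 0, 0, 0, 0, 0, 0, 0, 0, 0, 0, 0, 0, 0, 0], 0),
   (104, [0, 0, 0, 0, 0, 0, 0, 0, 0, 0, 0, 0, 0, 0, 0, 0, 0, 0, 0, 0, 0, 0, 0, 0, 0], 0),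
   (3602, [0, 0, 0, 0, 0, 0, 0, 0, 0, 0, 0, 0, 0, 0, 0, 0, 0, 0, 0, 0, 0, 0, 0, 0, 0, 0], 0),
   (3422, [0, 0, 0, 0, 0, 0, 0, 0, 0, 0, 0, 0, 0, 0, 0, 0, 0, 0, 0, 0, 0, 0, 0, 0, 0, 0, 0], 0),
   (3634, [0, 0, 0, 0, 0, 0, 0, 0, 0, 0, 0, 0, 0, 0, 0, 0, 0, 0, 0, 0, 0, 0, 0, 0, 0, 0, 0, 0], 0)] }

/-- The elements inverting the second word. -/
noncomputable def interZ : Inter :=
 { vW := [1, 1, 1, 5, 1, 1, 1, 2, 3, 2, 3, 4, 5, 3, 1],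
    wW := [4, 0, 2, 1, 0, 5, 0, 5, 4, 4, 4, 2, 4, 4, 4],
    m := 14,
    cv := [0, 3652, 3850, 3070, 867, 3313, 570, 3200, 994, 2512, 2240, 2653, 1126, 3215],
    lv := [false, true, true, true, false, false, true, false, true, false, false, true, true, true],
    lb := [(28, [false, false, true, false, true, false, true, false, false, false, true, false, true, false]),
   (32, [false, true, true, true, true, false, true, true, false, false, false, true, true, false]),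
   (3141, [false, false, false, false, true, true, false, false, true, false, false, false, true, false]),
   (1, [true, true, false, true, true, true, true, true, false, true, false, true, false, true]),
   (37, [false, true, false, false, true, false, false, false, false, true, false, false, false, true])],
    els := [(1880, [0, 4, 5, 0, 2, 1, 3, 4, 0, 4, 5, 1, 3, 3]),
   (0, [5, 5, 4, 5, 5, 5, 5, 5, 1, 5, 5, 1, 1, 2, 4]),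
   (1126, [4, 3, 4, 4, 2, 2, 2, 3, 2, 2, 4, 4, 5, 5, 4]),
   (2240, [3, 5, 3, 4, 2, 4, 5, 3, 4, 0, 4, 0, 5, 5, 1]),
   (3070, [3, 5, 3, 2, 0, 5, 1, 1, 2, 4, 2, 4, 3, 4, 4]),
   (3151, [5, 0, 4, 4, 0, 5, 1, 2, 0, 4, 2, 1, 3, 5, 3]),
   (3313, [4, 4, 5, 0, 1, 1, 5, 4, 5, 1, 5, 0, 2, 2, 4]),
   (3516, [5, 3, 2, 1, 3, 2, 4, 2, 1, 3, 5, 0, 2, 1, 3]),
   (3850, [3, 4, 2, 1, 5, 5, 5, 5, 5, 4, 4, 2, 2, 2, 0]),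
   (790, [3, 3, 4, 0, 5, 4, 2, 4, 3, 4, 5, 3, 5, 5, 4, 2]),
   (865, [5, 3, 5, 4, 0, 5, 0, 5, 3, 4, 2, 0, 1, 1, 3, 3]),
   (1039, [3, 1, 0, 5, 0, 4, 2, 2, 1, 0, 4, 0, 0, 4, 5, 0]),
   (1350, [3, 1, 5, 3, 5, 1, 3, 5, 4, 2, 3, 5, 1, 5, 5, 4]),
   (2011, [4, 0, 2, 1, 0, 4, 0, 4, 0, 4, 4, 5, 3, 1, 2, 4]),
   (3200, [4, 5, 3, 3, 2, 1, 0, 0, 5, 4, 0, 0, 5, 3, 1, 3]),
   (3215, [3, 3, 1, 5, 5, 1, 3, 5, 3, 4, 4, 4, 4, 0, 2, 0]),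
   (3652, [4, 5, 5, 3, 5, 3, 2, 2, 1, 2, 4, 2, 4, 4, 2, 4]),
   (570, [3, 3, 1, 1, 2, 1, 1, 1, 1, 3, 5, 3, 2, 3, 1, 0, 1]),
   (795, [4, 0, 5, 5, 1, 3, 5, 4, 0, 1, 5, 1, 5, 1, 2, 0, 4]),
   (867, [3, 5, 4, 4, 3, 2, 1, 0, 4, 0, 0, 5, 5, 0, 0, 5, 5]),
   (994, [4, 5, 5, 3, 2, 1, 5, 5, 1, 5, 4, 2, 2, 3, 4, 4, 2]),
   (2115, [3, 5, 3, 2, 2, 1, 0, 5, 5, 3, 4, 3, 3, 2, 1, 5, 1]),
   (2208, [4, 3, 4, 5, 1, 0, 0, 0, 5, 1, 5, 5, 5, 1, 0, 4, 4]),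
   (2512, [4, 4, 3, 3, 5, 5, 5, 0, 5, 1, 2, 4, 5, 3, 1, 3, 2]),
   (2653, [3, 5, 0, 5, 3, 5, 4, 0, 2, 0, 4, 2, 3, 4, 2, 3, 5]),
   (3144, [4, 0, 1, 5, 4, 4, 5, 4, 4, 0, 4, 0, 2, 0, 5, 3, 2]),
   (3156, [5, 0, 2, 3, 1, 5, 4, 5, 3, 3, 4, 2, 4, 4, 3, 3, 4]),
   (3571, [1, 1, 3, 3, 3, 4, 5, 0, 1, 2, 0, 1, 2, 0, 2, 1, 5])],
    reps := [(157, 28, [157, 1331, 2638, 3923, 610, 3481, 2432, 3855, 2608, 3184, 1428, 1296, 3894, 2049]), (546, 28, [546, 1131, 3603, 702, 1572, 3371, 2912, 2991, 695, 2116, 2071, 2444, 2828, 2862])],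
    syms := [(2608, [5, 5, 0, 1, 0, 0, 1, 0, 1, 1, 1, 0, 0, 0, 5, 1], 0),
   (3823, [4, 3, 2, 2, 3, 2, 0, 4, 0, 4, 4, 2, 1, 1, 3, 1], 0),
   (1912, [4, 0, 4, 4, 5, 1, 1, 3, 1, 3, 5, 0, 5, 5, 0, 1], 0),
   (3515, [0, 2, 3, 3, 5, 1, 1, 3, 3, 1, 0, 1, 5, 4, 3, 4], 0),
   (1428, [4, 2, 3, 3, 2, 0, 1, 3, 4, 0, 0, 4, 2, 2, 1, 3], 0),
   (2432, [3, 2, 2, 3, 2, 3, 1, 5, 4, 2, 3, 2, 1, 0, 0, 4], 0),
   (2717, [3, 5, 3, 3, 2, 4, 5, 3, 2, 1, 0, 5, 4, 4, 0, 4], 0),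
   (2638, [4, 2, 1, 5, 3, 3, 3, 2, 4, 2, 2, 3, 1, 3, 1, 3], 0),
   (3980, [4, 3, 4, 0, 5, 0, 2, 3, 2, 1, 1, 5, 5, 0], 0),
   (2874, [3, 5, 4, 2, 3, 2, 4, 3, 3, 1, 3, 5, 1, 0, 5, 5, 5], 0),
   (2401, [1, 1, 5, 4, 0, 1, 0, 0, 4, 4, 0, 5, 0, 4, 3, 3], 0),
   (1565, [1, 3, 1, 1, 2, 3, 4, 5, 0, 2, 1, 5, 0, 0, 2, 0], 0),
   (1199, [5, 3, 3, 4, 4, 0, 1, 3, 5, 4, 3, 1, 1, 5, 4, 5], 0),
   (610, [3, 5, 4, 3, 3, 2, 2, 3, 1, 3, 1, 0, 1, 1, 1, 2], 0),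
   (3481, [3, 1, 5, 4, 0, 4, 2, 4, 2, 1, 5, 0, 1, 5, 4, 3], 0),
   (3923, [4, 0, 1, 5, 5, 1, 0, 0, 4, 2, 0, 1, 3, 4, 4], 0),
   (1296, [1, 1, 0, 4, 3, 5, 1, 3, 3, 4, 2, 2, 4, 3, 1], 0),
   (3149, [3, 3, 4, 4, 0, 5, 4, 0, 1, 3, 4, 4, 5, 3, 2, 4, 3], 0),
   (2782, [1, 2, 1, 0, 2, 0, 1, 2, 4, 3, 4, 4, 3, 2, 2, 4], 0),
   (1317, [1, 0, 1, 2, 4, 3, 4, 0, 0, 4, 4, 2, 0, 0, 5, 3], 0),
   (3855, [4, 0, 0, 5, 5, 4, 5, 5, 5, 5, 0, 4, 2, 0, 4, 3, 5], 0),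
   (1331, [4, 0, 2, 1, 0, 5, 0, 5, 4, 4, 4, 2, 4, 4, 4], 0),
   (3184, [4, 4, 2, 0, 2, 1, 0, 5, 1, 1, 3, 2, 3, 2, 2, 1], 0),
   (232, [1, 5, 5, 0, 1, 1, 0, 1, 5, 4, 3, 5, 3, 4, 5, 4], 0),
   (2779, [3, 2, 2, 4, 4, 5, 0, 5, 3, 2, 3, 1, 0, 1], 0),
   (2049, [1, 1, 1, 5, 1, 1, 1, 2, 3, 2, 3, 4, 5, 3, 1], 0),
   (3894, [0, 4, 0, 4, 0, 5, 5, 1, 5, 0, 0, 0, 2, 4, 5, 1], 0),
   (695, [5, 5, 0, 1, 0, 0, 1, 0, 1, 1, 1, 0, 0, 0, 5, 1], 1),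
   (1415, [4, 3, 2, 2, 3, 2, 0, 4, 0, 4, 4, 2, 1, 1, 3, 1], 1),
   (1905, [4, 0, 4, 4, 5, 1, 1, 3, 1, 3, 5, 0, 5, 5, 0, 1], 1),
   (2249, [0, 2, 3, 3, 5, 1, 1, 3, 3, 1, 0, 1, 5, 4, 3, 4], 1),
   (2071, [4, 2, 3, 3, 2, 0, 1, 3, 4, 0, 0, 4, 2, 2, 1, 3], 1),
   (2912, [3, 2, 2, 3, 2, 3, 1, 5, 4, 2, 3, 2, 1, 0, 0, 4], 1),
   (684, [3, 5, 3, 3, 2, 4, 5, 3, 2, 1, 0, 5, 4, 4, 0, 4], 1),
   (3603, [4, 2, 1, 5, 3, 3, 3, 2, 4, 2, 2, 3, 1, 3, 1, 3], 1),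
   (1756, [4, 3, 4, 0, 5, 0, 2, 3, 2, 1, 1, 5, 5, 0], 1),
   (3864, [3, 5, 4, 2, 3, 2, 4, 3, 3, 1, 3, 5, 1, 0, 5, 5, 5], 1),
   (1188, [1, 1, 5, 4, 0, 1, 0, 0, 4, 4, 0, 5, 0, 4, 3, 3], 1),
   (3176, [1, 3, 1, 1, 2, 3, 4, 5, 0, 2, 1, 5, 0, 0, 2, 0], 1),
   (3314, [5, 3, 3, 4, 4, 0, 1, 3, 5, 4, 3, 1, 1, 5, 4, 5], 1),
   (1572, [3, 5, 4, 3, 3, 2, 2, 3, 1, 3, 1, 0, 1, 1, 1, 2], 1),
   (3371, [3, 1, 5, 4, 0, 4, 2, 4, 2, 1, 5, 0, 1, 5, 4, 3], 1),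
   (702, [4, 0, 1, 5, 5, 1, 0, 0, 4, 2, 0, 1, 3, 4, 4], 1),
   (2444, [1, 1, 0, 4, 3, 5, 1, 3, 3, 4, 2, 2, 4, 3, 1], 1),
   (958, [3, 3, 4, 4, 0, 5, 4, 0, 1, 3, 4, 4, 5, 3, 2, 4, 3], 1),
   (1053, [1, 2, 1, 0, 2, 0, 1, 2, 4, 3, 4, 4, 3, 2, 2, 4], 1),
   (3487, [1, 0, 1, 2, 4, 3, 4, 0, 0, 4, 4, 2, 0, 0, 5, 3], 1),
   (2991, [4, 0, 0, 5, 5, 4, 5, 5, 5, 5, 0, 4, 2, 0, 4, 3, 5], 1),
   (1131, [4, 0, 2, 1, 0, 5, 0, 5, 4, 4, 4, 2, 4, 4, 4], 1),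
   (2116, [4, 4, 2, 0, 2, 1, 0, 5, 1, 1, 3, 2, 3, 2, 2, 1], 1),
   (2149, [1, 5, 5, 0, 1, 1, 0, 1, 5, 4, 3, 5, 3, 4, 5, 4], 1),
   (3589, [3, 2, 2, 4, 4, 5, 0, 5, 3, 2, 3, 1, 0, 1], 1),
   (2862, [1, 1, 1, 5, 1, 1, 1, 2, 3, 2, 3, 4, 5, 3, 1], 1),
   (2828, [0, 4, 0, 4, 0, 5, 5, 1, 5, 0, 0, 0, 2, 4, 5, 1], 1)] }

/-- The three generators in the six words. -/
noncomputable def genW : List (List ℕ) :=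
 [[0], [0, 0, 1, 0, 5, 3, 4, 0, 5, 0, 1, 0, 2, 0, 0, 2, 1, 3, 2, 3, 3, 3, 2, 3, 4], [0, 5, 3, 3, 5, 3, 5, 0, 0, 5, 4, 3, 3, 2, 0, 2, 3, 1, 3, 2, 0, 2, 0, 1, 1]]

/-- Relations between the six words. -/
noncomputable def relW : List (List ℕ) :=
 [[3, 5, 3, 5, 3, 5, 3, 2, 3, 2, 3, 2, 3, 2], [5, 3, 3, 5, 3, 5, 0, 0, 5, 3, 5, 3, 3, 2, 0, 0, 2, 3, 2, 3, 2, 0, 0]]

/-- The position of the inverting word. -/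
noncomputable def goodK : ℕ :=
 1

/-- Conjugating powers for the coset of the second word. -/
noncomputable def slideM : List ℕ :=
 [0, 21, 23, 10, 15, 22, 1, 17, 19, 18, 9, 24, 25, 5, 4, 11, 13, 12, 8, 2, 27, 14, 26, 6, 16, 20, 28, 7, 3]

end CfsgLib.RuAut.Outer
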