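import Cfsg.Agent.Lib.RuAut.Auto

/-! Inner products read off from a product of packed coordinates. -/

set_option autoImplicit false
set_option maxRecDepth 100000

namespace CfsgLib.RuAut.Outer

open Cfsg Cfsg.Spor CfsgLib.RuLat CfsgLib.CosetEnum CfsgLib.RuAut

/-- Reversed slot of a position. -/
def powR (p : ℕ) : ℕ := bif Nat.blt p 56 then Nat.shiftLeft 1 (10 * (55 - p)) else 0

/-- Reversed packed positive part. -/
noncomputable def codeRP (it : ℕ) : ℕ := pp powR zf 16 it

/-- Reversed packed negative part. -/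
noncomputable def codeRN (it : ℕ) : ℕ := pp zf powR 16 it

theorem powR_eq_sum {p : ℕ} : powR p = ∑ q ∈ Finset.range 56, ind (55 - q) p * 1024 ^ q := by
  unfold powR
  rcases h : Nat.blt p 56 with _ | _
  · have h' : ¬ p < 56 := fun hh => by rw [← Nat.blt_eq] at hh; simp [h] at hh
    rw [Finset.sum_eq_zero]
    · rfl
    · intro q hq
      have : 55 - q ≠ p := by have := Finset.mem_range.1 hq; omega
      simp [ind_ne this]
  · have h' : p < 56 := by simpa using h
    rw [Finset.sum_eq_single (55 - p)]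
    · simp [ind, Nat.shiftLeft_eq, pow_mul, show 55 - (55 - p) = p by omega]
    · intro q hq hne
      have := Finset.mem_range.1 hq
      simp [ind_ne (show 55 - q ≠ p by omega)]
    · intro hp; exact absurd (Finset.mem_range.2 (by omega)) hp

/-- Slots of the positive part. -/
noncomputable def aP (it q : ℕ) : ℕ := pp (ind q) zf 16 it

/-- Slots of the negative part. -/
noncomputable def aN (it q : ℕ) : ℕ := pp zf (ind q) 16 it

theorem codeP_sum (it : ℕ) : codeP it = ∑ q ∈ Finset.range 56, aP it q * 1024 ^ q := by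
  rw [codeP, pp_congr (fun p _ => pow_eq_sum) (fun p _ => zf_sum p), pp_sum 1024 ind fun _ => zf]; rfl

theorem codeN_sum (it : ℕ) : codeN it = ∑ q ∈ Finset.range 56, aN it q * 1024 ^ q := by
  rw [codeN, pp_congr (fun p _ => zf_sum p) (fun p _ => pow_eq_sum), pp_sum 1024 (fun _ => zf) ind]; rfl

theorem codeRP_sum (it : ℕ) : codeRP it = ∑ q ∈ Finset.range 56, aP it (55 - q) * 1024 ^ q := by
  rw [codeRP, pp_congr (fun p _ => powR_eq_sum) (fun p _ => zf_sum p),
    pp_sum 1024 (fun q => ind (55 - q)) fun _ => zf]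
  rfl

theorem codeRN_sum (it : ℕ) : codeRN it = ∑ q ∈ Finset.range 56, aN it (55 - q) * 1024 ^ q := by
  rw [codeRN, pp_congr (fun p _ => zf_sum p) (fun p _ => powR_eq_sum),
    pp_sum 1024 (fun _ => zf) fun q => ind (55 - q)]
  rfl

theorem sum_slots_le (it : ℕ) : ∑ q ∈ Finset.range 56, (aP it q + aN it q) ≤ 16 := by
  have h1 := pp_sum 1 ind (fun _ => zf) (Finset.range 56) 16 it
  have h2 := pp_sum 1 (fun _ => zf) ind (Finset.range 56) 16 it
  simp only [one_pow, mul_one] at h1 h2
  rw [Finset.sum_add_distrib]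
  show (∑ q ∈ Finset.range 56, pp (ind q) zf 16 it) + ∑ q ∈ Finset.range 56, pp zf (ind q) 16 it ≤ 16
  rw [← h1, ← h2, ← pp_add]
  refine pp_le (fun p => ?_) (fun p => ?_) 16 it <;>
  · simp only [zf, Finset.sum_const_zero, add_zero, zero_add, ind]
    rw [show (∑ q ∈ Finset.range 56, bif Nat.beq q p then 1 else 0) = ∑ q ∈ Finset.range 56, if q = p then 1 else 0
      from Finset.sum_congr rfl fun q _ => by
        by_cases e : q = p
        · simp [e]
        · simp [e, show Nat.beq q p = false from Bool.eq_false_iff.2 fun hh => e (Nat.eq_of_beq_eq_true hh)],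
      Finset.sum_ite_eq']
    split <;> omega

theorem slot_le (it : ℕ) {q : ℕ} (hq : q < 56) : aP it q ≤ 16 ∧ aN it q ≤ 16 := by
  have := le_trans (Finset.single_le_sum (f := fun q => aP it q + aN it q) (fun _ _ => Nat.zero_le _)
    (Finset.mem_range.2 hq)) (sum_slots_le it)
  omega

theorem mul_digits (a b : ℕ → ℕ) :
    (∑ i ∈ Finset.range 56, a i * 1024 ^ i) * (∑ j ∈ Finset.range 56, b j * 1024 ^ j) =
      ∑ k ∈ Finset.range 111,
        (∑ i ∈ Finset.range 56, if i ≤ k ∧ k - i < 56 then a i * b (k - i) else 0) * 1024 ^ k := by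
  simp only [Finset.sum_mul]
  rw [Finset.sum_comm (s := Finset.range 111)]
  refine Finset.sum_congr rfl fun i hi => ?_
  have hi := Finset.mem_range.1 hi
  rw [Finset.mul_sum]
  simp only [ite_mul, zero_mul]
  rw [← Finset.sum_filter]
  refine Finset.sum_bij (fun j _ => i + j) (fun j hj => ?_) (fun j _ j' _ h => by omega) (fun k hk => ?_)
    fun j hj => ?_
  · have := Finset.mem_range.1 hj
    simp only [Finset.mem_filter, Finset.mem_range]
    omega
  · simp only [Finset.mem_filter, Finset.mem_range] at hk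
    exact ⟨k - i, Finset.mem_range.2 hk.2.2, by omega⟩
  · rw [show i + j - i = j by omega, pow_add]; ring

/-- Middle slot. -/
def mid (c : ℕ) : ℕ := Nat.land (Nat.shiftRight c 550) 1023

theorem mid_products (a a' b b' : ℕ → ℕ) (hs : ∑ i ∈ Finset.range 56, (a i + a' i) ≤ 16)
    (hb : ∀ j < 56, b j ≤ 16 ∧ b' j ≤ 16) :
    mid ((∑ i ∈ Finset.range 56, a i * 1024 ^ i) * (∑ j ∈ Finset.range 56, b j * 1024 ^ j) +
        (∑ i ∈ Finset.range 56, a' i * 1024 ^ i) * (∑ j ∈ Finset.range 56, b' j * 1024 ^ j)) =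
      ∑ i ∈ Finset.range 56, (a i * b (55 - i) + a' i * b' (55 - i)) := by
  rw [mul_digits, mul_digits, ← Finset.sum_add_distrib]
  rw [show ∀ c, mid c = dig c 55 from fun c => rfl, dig_eq]
  simp only [← add_mul]
  rw [digit_sum 111 _ (fun k _ => ?_) 55 (by norm_num), ← Finset.sum_add_distrib]
  · refine Finset.sum_congr rfl fun i hi => ?_
    have := Finset.mem_range.1 hi
    rw [if_pos ⟨by omega, by omega⟩, if_pos ⟨by omega, by omega⟩]
  · rw [← Finset.sum_add_distrib]
    refine lt_of_le_of_lt (Finset.sum_le_sum (g := fun i => (a i + a' i) * 16) fun i _ => ?_) ?_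
    · split
      · rename_i h
        obtain ⟨h1, h2⟩ := hb _ h.2
        have := Nat.mul_le_mul_left (a i) h1
        have := Nat.mul_le_mul_left (a' i) h2
        rw [add_mul]; omega
      · exact Nat.zero_le _
    · rw [← Finset.sum_mul]; omega

/-- Orthogonality test on packed coordinates. -/
noncomputable def orthT (P N U W : ℕ) : Bool := Nat.beq (mid (P * U + N * W)) (mid (P * W + N * U))

theorem orthT_iff (x y : ℕ) :
    orthT (codeP x) (codeN x) (codeRP y) (codeRN y) = true ↔ dot (vecIt 16 x) (vecIt 16 y) = 0 := by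
  have hr : ∀ j < 56, aP y (55 - j) ≤ 16 ∧ aN y (55 - j) ≤ 16 := fun j _ => slot_le y (by omega)
  unfold orthT
  rw [Nat.beq_eq, codeP_sum, codeN_sum, codeRP_sum, codeRN_sum,
    mid_products (aP x) (aN x) (fun q => aP y (55 - q)) (fun q => aN y (55 - q)) (sum_slots_le x) hr,
    mid_products (aP x) (aN x) (fun q => aN y (55 - q)) (fun q => aP y (55 - q)) (sum_slots_le x)
      fun j hj => (hr j hj).symm, dot]
  have e : ∀ q ∈ Finset.range 56, co (vecIt 16 x) q * co (vecIt 16 y) q =
      (((aP x q * aP y (55 - (55 - q)) + aN x q * aN y (55 - (55 - q)) : ℕ) : ℤ) -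
        ((aP x q * aN y (55 - (55 - q)) + aN x q * aP y (55 - (55 - q)) : ℕ) : ℤ)) := by
    intro q hq
    have hq := Finset.mem_range.1 hq
    rw [co_vecIt_aux x hq, co_vecIt_aux y hq, show 55 - (55 - q) = q by omega]
    show ((aP x q : ℤ) - aN x q) * ((aP y q : ℤ) - aN y q) = _
    push_cast
    ring
  rw [Finset.sum_congr rfl e, Finset.sum_sub_distrib, sub_eq_zero, ← Nat.cast_sum, ← Nat.cast_sum, Int.ofNat_inj]

end CfsgLib.RuAut.Outer
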