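import Cfsg.Agent.Lib.RuAut.Out.ChecksX
import Cfsg.Agent.Lib.RuAut.Out.ChecksS
import Cfsg.Agent.Lib.RuAut.Out.Words
import Cfsg.Agent.Lib.M24Elt.AutCheck
import Cfsg.Prelude.Def_KGroupFacts

/-! Every automorphism of the Rudvalis group is inner. -/

set_option autoImplicit false
set_option maxRecDepth 100000

namespace CfsgLib.RuAut.Outer

open Cfsg CfsgLib.CosetEnum CfsgLib.RuAut

attribute [local irreducible] Tr.get

/-- The element of order 29. -/
noncomputable def X : Cfsg.Spor.Ru := ev xW
/-- The element of order 14 normalising it. -/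
noncomputable def Z : Cfsg.Spor.Ru := ev zW
/-- The inverting element. -/
noncomputable def S : Cfsg.Spor.Ru := ev sW

theorem finite_Ru : Finite Cfsg.Spor.Ru := Nat.finite_of_card_ne_zero (by rw [card_Ru]; norm_num)

theorem x_period : eqW (List.replicate 29 xW).flatten [] = true := by decide +kernel

theorem x_ne : neW xW [] = true := by decide +kernel

theorem orderOf_X : orderOf X = 29 := by
  have : Fact (Nat.Prime 29) := ⟨by norm_num⟩
  refine orderOf_eq_prime ?_ (neW_spec x_ne)
  rw [X, ← ev_replicate, eqW_spec x_period, ev_nil]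

theorem X_pow_mod (j : ℕ) : X ^ (j % 29) = X ^ j := by rw [← orderOf_X, pow_mod_orderOf]

theorem zx_check : eqW (zW ++ xW) ((List.replicate 4 xW).flatten ++ zW) = true := by decide +kernel

theorem Z_mul_X : Z * X = X ^ 4 * Z := by
  have e := eqW_spec zx_check
  rwa [ev_append, ev_append, ev_replicate] at e

theorem Z_mul_X_pow (j : ℕ) : Z * X ^ j = X ^ (4 * j) * Z := by
  induction j with
  | zero => simp
  | succ j ih => rw [pow_succ, ← mul_assoc, ih, mul_assoc, Z_mul_X, ← mul_assoc, ← pow_add, mul_add, mul_one]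

theorem Z_pow_mul_X (t j : ℕ) : Z ^ t * X ^ j = X ^ (4 ^ t * j) * Z ^ t := by
  induction t with
  | zero => simp
  | succ t ih =>
    rw [pow_succ' Z, mul_assoc, ih, ← mul_assoc, Z_mul_X_pow, mul_assoc]
    congr 2
    rw [pow_succ']
    ring

theorem slide_check : centX.els.all (fun e => (List.range 29).any fun m =>
    eqW (zW ++ e.2 ++ (List.replicate m xW).flatten) ((List.replicate m xW).flatten ++ zW)) = true := by
  decide +kernel

theorem centX_words : centX.vW = xW ∧ centX.wW = xW := ⟨rfl, rfl⟩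

/-- An element acting on `X` as `Z` does is conjugate to `Z` by a power of `X`. -/
theorem exists_slide {u : Cfsg.Spor.Ru} (hu : u * X = X ^ 4 * u) : ∃ m : ℕ, u * X ^ m = X ^ m * Z := by
  have hc : Z⁻¹ * u * ev centX.vW = ev centX.wW * (Z⁻¹ * u) := by
    rw [centX_words.1, centX_words.2]
    show Z⁻¹ * u * X = X * (Z⁻¹ * u)
    have hz : Z⁻¹ * X ^ 4 = X * Z⁻¹ := by
      rw [inv_mul_eq_iff_eq_mul, ← mul_assoc, Z_mul_X, mul_inv_cancel_right]
    rw [mul_assoc, hu, ← mul_assoc, hz, mul_assoc]
  obtain ⟨e, he, hew⟩ := centX.complete centX_valid hc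
  have h := List.all_eq_true.1 slide_check e he
  obtain ⟨m, -, hm⟩ := List.any_eq_true.1 h
  refine ⟨m, ?_⟩
  have e' := eqW_spec hm
  rw [ev_append, ev_append, ev_append, ev_replicate] at e'
  rw [← show Z * ev e.2 = u from by rw [← hew, mul_inv_cancel_left]]
  exact e'

theorem gen_word_check : (List.range 3).all (fun j => eqW (flat (six xW zW sW) (genW.getD j [])) [j]) = true := by
  decide +kernel

theorem six_wordB : wordB xW = true ∧ wordB zW = true ∧ wordB sW = true := by decide +kernel

theorem hom_ext_xzs {M : Type*} [Group M] {f f' : Cfsg.Spor.Ru →* M} (hX : f X = f' X) (hZ : f Z = f' Z)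
    (hS : f S = f' S) : f = f' := by
  have hi : ∀ w, wordB w = true → f (ev w) = f' (ev w) → f (ev (invW w)) = f' (ev (invW w)) := fun w hw h => by
    rw [ev_invW w (wordB_spec hw), map_inv, map_inv, h]
  have hL : ∀ a, f (ev ((six xW zW sW).getD a [])) = f' (ev ((six xW zW sW).getD a []))
    | 0 => hX
    | 1 => hZ
    | 2 => hS
    | 3 => hi xW six_wordB.1 hX
    | 4 => hi zW six_wordB.2.1 hZ
    | 5 => hi sW six_wordB.2.2 hS
    | n + 6 => by
      rw [List.getD_eq_default _ _ (by simp [six]), ev_nil, map_one, map_one]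
  refine MonoidHom.eq_of_eqOn_dense gen_closure ?_
  have key : ∀ j < 3, f (gen j) = f' (gen j) := by
    intro j hj
    have h := eqW_spec (List.all_eq_true.1 gen_word_check j (List.mem_range.2 hj))
    rw [show gen j = ev [j] by simp [ev], ← h, hom_flat, hom_flat]
    exact congrArg List.prod (List.map_congr_left fun a _ => hL a)
  rintro x (rfl | rfl | rfl)
  · exact key 0 (by norm_num)
  · exact key 1 (by norm_num)
  · exact key 2 (by norm_num)

theorem interZ_words : interZ.vW = zW ∧ eqW (interZ.wW ++ zW) [] = true := ⟨rfl, by decide +kernel⟩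

theorem interW_eq : ev interZ.wW = Z⁻¹ := by
  have e := eqW_spec interZ_words.2
  rw [ev_append, ev_nil] at e
  exact eq_inv_of_mul_eq_one_left e

theorem sz_check : eqW (sW ++ zW) (interZ.wW ++ sW) = true := by decide +kernel

theorem exponent_check : (List.range 29).all (fun j => Nat.beq j 0 ||
    (List.range 14).any fun t => Nat.beq (4 ^ t * j % 29) 1 || Nat.beq (4 ^ t * j % 29) 2) = true := by
  decide +kernel

/-- Possible images of the three elements other than the elements themselves break a relation. -/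
noncomputable def pairB (e k : ℕ) : Bool :=
  (Nat.beq e 1 && Nat.beq k goodK) ||
    relW.any fun r => neW (flat (six (List.replicate e xW).flatten zW (interZ.els.getD k (0, [])).2) r) []

theorem pair_check : (List.range interZ.els.length).all (fun k => pairB 1 k && pairB 2 k) = true := by
  decide +kernel

theorem rel_check : relW.all (fun r => eqW (flat (six xW zW sW) r) []) = true := by decide +kernel

theorem good_check : (Nat.blt goodK interZ.els.length && eqW (interZ.els.getD goodK (0, [])).2 sW) = true := by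
  decide +kernel

theorem normalise (φ : MulAut Cfsg.Spor.Ru) :
    ∃ h : Cfsg.Spor.Ru, (MulAut.conj h * φ) X = X ∧ (MulAut.conj h * φ) Z = Z ∧ (MulAut.conj h * φ) S = S := by
  haveI := finite_Ru
  have : Fact (Nat.Prime 29) := ⟨by norm_num⟩
  obtain ⟨c, hc⟩ := CfsgLib.M24Elt.AutBound.exists_conj_mem (S := Subgroup.zpowers X) (p := 29) (k := 1)
    (by rw [Nat.card_zpowers, orderOf_X, pow_one]) (by rw [card_Ru]; norm_num)
    ((φ.orderOf_eq X).trans orderOf_X)
  rw [← mem_powers_iff_mem_zpowers, Submonoid.mem_powers_iff] at hc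
  obtain ⟨j, hj⟩ := hc
  have hj0 : j % 29 ≠ 0 := by
    intro h0
    have h1 : c * φ X * c⁻¹ = 1 := by rw [← hj, ← X_pow_mod, h0, pow_zero]
    rw [conj_eq_one_iff] at h1
    exact neW_spec x_ne (φ.injective (h1.trans (map_one φ).symm))
  have ht := List.all_eq_true.1 exponent_check (j % 29) (List.mem_range.2 (Nat.mod_lt _ (by norm_num)))
  simp only [Bool.or_eq_true, Nat.beq_eq, hj0, false_or, List.any_eq_true] at ht
  obtain ⟨t, -, ht⟩ := ht
  obtain ⟨e, he, het⟩ : ∃ e, (e = 1 ∨ e = 2) ∧ 4 ^ t * (j % 29) % 29 = e := ⟨_, ht, rfl⟩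
  set ψ : MulAut Cfsg.Spor.Ru := MulAut.conj (Z ^ t * c) * φ with hψdef
  have hψ : ψ X = X ^ e := by
    have h1 : ψ X = Z ^ t * (c * φ X * c⁻¹) * (Z ^ t)⁻¹ := by
      rw [hψdef, MulAut.mul_apply, MulAut.conj_apply]; group
    rw [h1, ← hj, ← X_pow_mod j, Z_pow_mul_X, mul_inv_cancel_right, ← X_pow_mod, het]
  have hu : ψ Z * X = X ^ 4 * ψ Z := by
    obtain ⟨r, hr⟩ : ∃ r, e * r % 29 = 1 := by
      rcases he with rfl | rfl
      · exact ⟨1, rfl⟩
      · exact ⟨15, rfl⟩
    have h1 : ψ Z * X ^ (e * r) = X ^ (e * (4 * r)) * ψ Z := by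
      have h := congrArg ψ (Z_mul_X_pow r)
      rw [map_mul, map_mul, map_pow, map_pow, hψ] at h
      rwa [← pow_mul, ← pow_mul] at h
    rw [← X_pow_mod, hr, pow_one] at h1
    rw [h1]
    congr 1
    rw [show e * (4 * r) = 4 * (e * r) by ring, mul_comm 4, pow_mul, ← X_pow_mod (e * r), hr, pow_one]
  obtain ⟨m, hm⟩ := exists_slide hu
  set χ : MulAut Cfsg.Spor.Ru := MulAut.conj (X ^ m)⁻¹ * ψ with hχdef
  have hχX : χ X = X ^ e := by
    rw [hχdef, MulAut.mul_apply, hψ, MulAut.conj_apply, inv_inv, mul_assoc, ← pow_add, add_comm, pow_add,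
      inv_mul_cancel_left]
  have hχZ : χ Z = Z := by
    rw [hχdef, MulAut.mul_apply, MulAut.conj_apply, inv_inv, mul_assoc, hm, inv_mul_cancel_left]
  have hS : χ S * ev interZ.vW = ev interZ.wW * χ S := by
    rw [interZ_words.1, interW_eq]
    show χ S * Z = _
    have e' : S * Z = Z⁻¹ * S := by
      have := eqW_spec sz_check
      rwa [ev_append, ev_append, interW_eq] at this
    conv_lhs => rw [← hχZ, ← map_mul, e', map_mul, map_inv, hχZ]
  obtain ⟨el, hel, helS⟩ := interZ.complete interZ_valid hS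
  obtain ⟨k, hk, rfl⟩ := List.mem_iff_getElem.1 hel
  refine ⟨(X ^ m)⁻¹ * (Z ^ t * c), ?_⟩
  rw [show MulAut.conj ((X ^ m)⁻¹ * (Z ^ t * c)) * φ = χ by rw [hχdef, hψdef, map_mul, mul_assoc]]
  have hget : (interZ.els.getD k (0, [])) = interZ.els[k] := List.getD_eq_getElem ..
  have hpc := List.all_eq_true.1 pair_check k (List.mem_range.2 hk)
  rw [Bool.and_eq_true] at hpc
  have hp : pairB e k = true := by rcases he with rfl | rfl <;> [exact hpc.1; exact hpc.2]
  rw [pairB, Bool.or_eq_true, Bool.and_eq_true, Nat.beq_eq, Nat.beq_eq, List.any_eq_true] at hp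
  rcases hp with ⟨he1, hkg⟩ | ⟨r, hr, hne⟩
  · refine ⟨by rw [hχX, he1, pow_one], hχZ, ?_⟩
    have hg := good_check
    rw [Bool.and_eq_true] at hg
    rw [helS, ← hget, hkg]
    exact eqW_spec hg.2
  · exfalso
    apply neW_spec hne
    have hkw : wordB (interZ.els[k]).2 = true := by
      have hel' := interZ_valid.els
      simp only [Inter.elsB, Bool.and_eq_true, List.all_eq_true] at hel'
      exact (hel' _ hel).1.1
    have hxe : wordB (List.replicate e xW).flatten = true := by
      rcases he with rfl | rfl <;> decide +kernel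
    have hrel := eqW_spec (List.all_eq_true.1 rel_check r hr)
    have h2 := congrArg χ.toMonoidHom hrel
    rw [hom_flat, ev_nil, map_one] at h2
    rw [ev_flat, ev_nil, ← h2, hget]
    refine congrArg List.prod (List.map_congr_left fun a _ => ?_)
    show _ = χ (ev ((six xW zW sW).getD a []))
    match a with
    | 0 => exact (ev_replicate xW e).trans hχX.symm
    | 1 => exact hχZ.symm
    | 2 => exact helS.symm
    | 3 =>
      show ev (invW _) = χ (ev (invW xW))
      rw [ev_invW _ (wordB_spec hxe), ev_invW _ (wordB_spec six_wordB.1), map_inv, ev_replicate]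
      exact congrArg (·⁻¹) hχX.symm
    | 4 =>
      show ev (invW zW) = χ (ev (invW zW))
      rw [ev_invW _ (wordB_spec six_wordB.2.1), map_inv]
      exact congrArg (·⁻¹) hχZ.symm
    | 5 =>
      show ev (invW _) = χ (ev (invW sW))
      rw [ev_invW _ (wordB_spec hkw), ev_invW _ (wordB_spec six_wordB.2.2), map_inv]
      exact congrArg (·⁻¹) helS.symm
    | n + 6 =>
      rw [List.getD_eq_default _ _ (by simp [six]), List.getD_eq_default _ _ (by simp [six]), ev_nil, map_one]

theorem card_out : Nat.card (Out Cfsg.Spor.Ru) = 1 := by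
  rw [Nat.card_eq_one_iff_unique]
  refine ⟨⟨fun a b => ?_⟩, ⟨1⟩⟩
  suffices ∀ q : Out Cfsg.Spor.Ru, q = 1 by rw [this a, this b]
  intro q
  obtain ⟨φ, rfl⟩ := QuotientGroup.mk_surjective q
  obtain ⟨h, hX, hZ, hS⟩ := normalise φ
  have h1 : MulAut.conj h * φ = 1 := MulEquiv.toMonoidHom_injective
    (hom_ext_xzs (f := (MulAut.conj h * φ).toMonoidHom) (f' := (1 : MulAut Cfsg.Spor.Ru).toMonoidHom) hX hZ hS)
  refine (QuotientGroup.eq_one_iff (N := Inn Cfsg.Spor.Ru) φ).2 ⟨h⁻¹, ?_⟩
  rw [map_inv]
  exact inv_eq_of_mul_eq_one_right h1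

end CfsgLib.RuAut.Outer
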