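import Cfsg.Agent.Lib.RuAut.Out.Digits
import Cfsg.Agent.Lib.RuAut.DataLines
import Cfsg.Agent.Lib.RuAut.Out.DataA
import Cfsg.Agent.Lib.RuAut.Out.DataB

/-! The packed coordinates of the line representatives. -/

set_option autoImplicit false
set_option maxRecDepth 100000

namespace CfsgLib.RuAut.Outer

open CfsgLib.CosetEnum CfsgLib.RuAut

/-- Low 560 bits. -/
def low (c : ℕ) : ℕ := Nat.mod c (Nat.shiftLeft 1 560)

/-- The stored coordinates of one line. -/
noncomputable def recOK (l : ℕ) : Bool :=
  strict (itemOf (repTab.get 20 l)) fun x => strict (itemOf (jTab.get 20 (repTab.get 20 l))) fun y =>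
    strict (orthA.get 2240 l) fun A => strict (orthB.get 1120 l) fun B =>
      Nat.beq (low A) (codeP x) && Nat.beq (low (Nat.shiftRight A 560)) (codeN x) &&
        Nat.beq (low (Nat.shiftRight A 1120)) (codeP y) && Nat.beq (Nat.shiftRight A 1680) (codeN y) &&
          Nat.beq (low B) (codeRP x) && Nat.beq (Nat.shiftRight B 560) (codeRN x)

theorem rec_checks : allFrom recOK 4060 0 = true := by decide +kernel

end CfsgLib.RuAut.Outer
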