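import Cfsg.Agent.Lib.RuAut.Lines
import Cfsg.Agent.Lib.RuAut.Out.OrthChecks

/-! Orthogonality of lines and the action of the Rudvalis group on the lines. -/

set_option autoImplicit false
set_option maxRecDepth 100000

namespace CfsgLib.RuAut.Outer

open Cfsg Cfsg.Spor CfsgLib.RuLat CfsgLib.CosetEnum CfsgLib.RuAut

attribute [local irreducible] Tr.get

/-- Two vectors are orthogonal over the Gaussian integers. -/
def Orth (a b : Fin 16240) : Prop := dot (vec a) (vec b) = 0 ∧ dot (vec (jI a)) (vec b) = 0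

theorem dot_jI (a b : Fin 16240) : dot (vec (jI a)) (vec (jI b)) = dot (vec a) (vec b) := by
  rw [← piV_eI a, ← piV_eI b, dot_piV]

theorem vec_jI_jI (a : Fin 16240) : vec (jI (jI a)) = -vec a := by
  rw [vec_jI, vec_jI, smul_smul, show gI * gI = -1 by decide, neg_smul, one_smul]

theorem dot_jI_right (a b : Fin 16240) : dot (vec a) (vec (jI b)) = -dot (vec (jI a)) (vec b) := by
  rw [← dot_jI a (jI b), vec_jI_jI, dot_comm, dot_neg_left, dot_comm]

theorem orth_jI_left (a b : Fin 16240) : Orth (jI a) b ↔ Orth a b := by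
  unfold Orth
  rw [vec_jI_jI, dot_neg_left, neg_eq_zero, and_comm]

theorem orth_jI_right (a b : Fin 16240) : Orth a (jI b) ↔ Orth a b := by
  unfold Orth
  rw [dot_jI, dot_jI_right, neg_eq_zero, and_comm]

theorem orth_iterate (j k : ℕ) (a b : Fin 16240) : Orth ((jI^[j]) a) ((jI^[k]) b) ↔ Orth a b := by
  induction j with
  | zero =>
    induction k with
    | zero => exact Iff.rfl
    | succ k ih => rw [Function.iterate_succ_apply' jI k, orth_jI_right]; exact ih
  | succ j ih => rw [Function.iterate_succ_apply', orth_jI_left]; exact ih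

theorem orth_rep (a b : Fin 16240) : Orth (repOf (lineOf a)) (repOf (lineOf b)) ↔ Orth a b := by
  obtain ⟨j, -, hj⟩ := eq_rep a
  obtain ⟨k, -, hk⟩ := eq_rep b
  conv_rhs => rw [hj, hk]
  exact (orth_iterate j k _ _).symm

theorem orth_piV (f : fourRu) (a b : Fin 16240) : Orth (piV f a) (piV f b) ↔ Orth a b := by
  unfold Orth
  rw [← piV_jI, dot_piV, dot_piV]

/-- Orthogonality label of two lines. -/
noncomputable def lbl (a b : ℕ) : Bool :=
  strict (orthA.get 2240 a) fun A => strict (orthB.get 1120 b) fun B =>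
    strict (low B) fun U => strict (Nat.shiftRight B 560) fun W =>
      orthT (low A) (low (Nat.shiftRight A 560)) U W && orthT (low (Nat.shiftRight A 1120)) (Nat.shiftRight A 1680) U W

theorem lbl_iff (a b : Fin 4060) : lbl a b = true ↔ Orth (repOf a) (repOf b) := by
  have ha := allFrom_spec _ _ _ rec_checks a (Nat.zero_le _) (by have := a.2; omega)
  have hb := allFrom_spec _ _ _ rec_checks b (Nat.zero_le _) (by have := b.2; omega)
  unfold recOK at ha hb
  simp only [strict_eq, Bool.and_eq_true, Nat.beq_eq] at ha hb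
  obtain ⟨⟨⟨⟨⟨a1, a2⟩, a3⟩, a4⟩, -⟩, -⟩ := ha
  obtain ⟨⟨-, b1⟩, b2⟩ := hb
  unfold lbl Orth
  simp only [strict_eq, Bool.and_eq_true]
  rw [a1, a2, a3, a4, b1, b2, orthT_iff, orthT_iff, ← val_repOf a, ← val_repOf b, ← val_jI, vec, vec, vec]

theorem lbl_move (f : fourRu) (a b : Fin 4060) :
    lbl (piL f a : Fin 4060) (piL f b : Fin 4060) = lbl a b := by
  rw [Bool.eq_iff_iff, lbl_iff, lbl_iff]
  conv_lhs => rw [← lineOf_repOf a, ← lineOf_repOf b, piL_lineOf, piL_lineOf, orth_rep, orth_piV]

theorem piL_eI (l : Fin 4060) : piL eI l = l := by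
  rw [← lineOf_repOf l, piL_lineOf, piV_eI, lineOf_jI]

theorem center_le_ker : Subgroup.center fourRu ≤ piL.ker := by
  rw [center_eq, scalars, Subgroup.zpowers_le, MonoidHom.mem_ker]
  exact Equiv.ext fun l => by rw [piL_eI]; rfl

/-- The Rudvalis group acting on the lines. -/
noncomputable def πR : Cfsg.Spor.Ru →* Equiv.Perm (Fin 4060) :=
  QuotientGroup.lift (Subgroup.center fourRu) piL center_le_ker

theorem πR_mk (z : fourRu) : πR (QuotientGroup.mk z) = piL z := rfl

theorem πR_lbl (g : Cfsg.Spor.Ru) (a b : Fin 4060) : lbl (πR g a : Fin 4060) (πR g b : Fin 4060) = lbl a b := by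
  obtain ⟨z, rfl⟩ := QuotientGroup.mk_surjective g
  exact lbl_move z a b

theorem fix_base_scalar {z : fourRu} (h : ∀ k < 6, piL z (lineOf (bPt k)) = lineOf (bPt k)) : z ∈ scalars := by
  obtain ⟨s, hs, hsz⟩ := exists_scalar_fix (h 0 (by norm_num))
  have hl : ∀ k < 6, piL (s⁻¹ * z) (lineOf (bPt k)) = lineOf (bPt k) := fun k hk => by
    obtain ⟨m, rfl⟩ := hs
    rw [map_mul, map_inv, Equiv.Perm.mul_apply, h k hk, Equiv.Perm.inv_def, Equiv.symm_apply_eq, map_zpow]
    exact (Equiv.Perm.zpow_apply_eq_self_of_apply_eq_self (piL_eI _) m).symm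
  have hfix : ∀ k, k ≤ 6 → Fixes (s⁻¹ * z) k := by
    intro k
    induction k with
    | zero => exact fun _ i hi => absurd hi (Nat.not_lt_zero i)
    | succ k ih =>
      intro hk
      have hf := ih (by omega)
      refine fixes_succ hf ?_
      rcases k with _ | k
      · exact hsz
      set j := piV (s⁻¹ * z) (bPt (k + 1)) with hj
      obtain ⟨a, ha, haj⟩ := eq_rep j
      obtain ⟨b, hb, hbj⟩ := eq_rep (bPt (k + 1))
      have e : lineOf j = lineOf (bPt (k + 1)) := by rw [hj, ← piL_lineOf, hl _ (by omega)]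
      have hp := profKey_piV (c := k + 1) (by omega) hf (bPt (k + 1))
      rw [← hj] at hp
      have hc := allFrom_spec _ _ _ phase_checks (k + 1) (by omega) (by omega)
      unfold phaseOK at hc
      simp only [strict_eq, Bool.and_eq_true, Bool.not_eq_true'] at hc
      have hv : baseList.getD (k + 1) 0 = (bPt (k + 1) : ℕ) := by
        have hk5 : k < 5 := by omega
        have : baseList.getD (k + 1) 0 < 16240 := by interval_cases k <;> decide
        exact (Nat.mod_eq_of_lt this).symm
      rw [hv, ← val_jI, ← val_jI, ← val_jI] at hc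
      have hmul : ∃ c < 4, j = (jI^[c]) (bPt (k + 1)) := by
        have h4 : ∀ y, (jI^[4]) y = y := fun y => by rw [← eI_pow_apply, eI_pow_four, map_one]; rfl
        refine ⟨(a + (4 - b)) % 4, Nat.mod_lt _ (by norm_num), ?_⟩
        have hper : ∀ q y, (jI^[q]) y = (jI^[q % 4]) y := fun q y => by
          conv_lhs => rw [← Nat.mod_add_div q 4, Function.iterate_add_apply, Function.iterate_mul]
          rw [Function.iterate_fixed (h4 y)]
        rw [← hper, haj, e]
        conv_rhs => rw [hbj]
        rw [← Function.iterate_add_apply, hper (a + (4 - b) + b),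
          show (a + (4 - b) + b) % 4 = a % 4 by omega, ← hper]
      obtain ⟨c, hc4, hcj⟩ := hmul
      interval_cases c
      · exact hcj
      · rw [hcj, Function.iterate_one] at hp
        rw [hp] at hc; simp at hc
      · rw [hcj, Function.iterate_succ_apply', Function.iterate_one] at hp
        rw [hp] at hc; simp at hc
      · rw [hcj, Function.iterate_succ_apply', Function.iterate_succ_apply', Function.iterate_one] at hp
        rw [hp] at hc; simp at hc
  have := eq_one_of_fixes (hfix 6 le_rfl)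
  rw [inv_mul_eq_one] at this
  exact this ▸ hs

/-- The base lines. -/
def baseL : List ℕ := [0, 28, 32, 3141, 1, 37]

theorem base_checks : (List.range 6).all (fun k =>
    Nat.beq (lineTab.get 20 (baseList.getD k 0 % 16240)) (baseL.getD k 0)) = true := by
  decide +kernel

theorem base_line {k : ℕ} (hk : k < 6) : ((lineOf (bPt k) : Fin 4060) : ℕ) = baseL.getD k 0 := by
  have h := List.all_eq_true.1 base_checks k (List.mem_range.2 hk)
  rw [val_lineOf]
  exact Nat.eq_of_beq_eq_true h

theorem base_cases {b : ℕ} (h : b ∈ baseL) : ∃ k < 6, baseL.getD k 0 = b := by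
  obtain ⟨k, hk, rfl⟩ := List.mem_iff_getElem.1 h
  exact ⟨k, hk, List.getD_eq_getElem _ _ hk⟩

theorem eq_of_base (g h : Cfsg.Spor.Ru) (e : ∀ b ∈ baseL, ∀ hb : b < 4060, πR g ⟨b, hb⟩ = πR h ⟨b, hb⟩) :
    g = h := by
  obtain ⟨x, rfl⟩ := QuotientGroup.mk_surjective g
  obtain ⟨y, rfl⟩ := QuotientGroup.mk_surjective h
  refine (QuotientGroup.eq).2 ?_
  rw [center_eq]
  refine fix_base_scalar fun k hk => ?_
  have hv := base_line hk
  have hm : baseL.getD k 0 ∈ baseL := by
    rw [List.getD_eq_getElem _ _ (show k < baseL.length from hk)]; exact List.getElem_mem _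
  have hk' := e _ hm (hv ▸ (lineOf (bPt k)).2)
  rw [show (⟨baseL.getD k 0, _⟩ : Fin 4060) = lineOf (bPt k) from Fin.ext hv.symm, πR_mk, πR_mk] at hk'
  rw [map_mul, map_inv, Equiv.Perm.mul_apply, Equiv.Perm.inv_def, Equiv.symm_apply_eq, hk']

end CfsgLib.RuAut.Outer
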